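import Cfsg.Agent.N2.Cl.Defs
import Cfsg.Agent.N2.Par.Main
import Cfsg.Agent.SB.Br.Mod
import Cfsg.Agent.CTwoTab.Base
import Cfsg.Agent.AutOrth.Final
import Cfsg.Agent.ClassicalGeometry.OrthSemiForms
import Cfsg.Agent.ClassicalGeometry.SympAutOddA
import Cfsg.Agent.ClassicalGeometry.SympAutExists
import Cfsg.Agent.S0270
import Cfsg.Agent.S0296

/-!
# N2 (S3519), classical socles: the bridge (helper58)

`brL`, `brU`, `brSp`, `brO`; `Br.exists_H`, `Br.good_of_mod` (transport from a model), `Br.good_plus'` (plus type, groups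
of semilinear automorphisms, also in dimension eight).
-/

set_option autoImplicit false

namespace Cfsg.Agent.N2C

open Cfsg Subgroup Cfsg.Agent.DS.Cl Cfsg.Agent.DS.Cl.Fwd Cfsg.Agent.SB.Br Module
open Cfsg.Agent.FP3 (Good MI ASRow)
open Cfsg.Agent.N2 (Cf Row fO fP fM)
open Cfsg.Agent.TH.Cl (KL KU KSp KO)

namespace Br

theorem cast_EB {K V : Type} [Field K] [AddCommGroup V] [Module K V] (h : HF K V) (p : ℕ) [CharP K p] :
    (p : h.EB) = 0 := h.ap_ext fun v => by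
  change (p : Module.End K V) v = 0
  rw [Module.End.natCast_apply, ← Nat.cast_smul_eq_nsmul K, CharP.cast_eq_zero, zero_smul]

theorem cast_LR (K : Type) [Field K] (n p : ℕ) [CharP K p] : (p : LR (Fin n) K) = 0 := by
  have h1 : (p : Matrix (Fin n) (Fin n) K) = 0 := by
    ext i j
    rw [Matrix.natCast_apply, Nat.cast_ite, CharP.cast_eq_zero, Nat.cast_zero, ite_self, Matrix.zero_apply]
  exact Prod.ext h1 h1

theorem noncomm_of_mi {X : Type} [Group X] [IsSimpleGroup X] {B : Subgroup X} {Γ : Subgroup (MulAut X)} (h : MI B Γ) :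
    ¬ IsMulCommutative X := fun k =>
  (Normal.eq_bot_or_eq_top (H := B) ⟨fun x hx g => by rwa [k.is_comm.comm g x, mul_inv_cancel_right]⟩).elim
    h.ne_bot h.ne_top

variable {A : Type} [Ring A] [StarRing A] {F : FR A} {X : Type} [Group X] {Γ₀ : Set (MulAut X)}

/-- **transport** from the abstract group to the form ring -/
theorem exists_H (hmod : ModE F X Γ₀) {B : Subgroup X} {Γ : Subgroup (MulAut X)} (h : MI B Γ) (hΓ : ∀ σ ∈ Γ, σ ∈ Γ₀) :
    ∃ (e : F.S ≃* X) (H : Subgroup (RingAut A)), H ≤ F.Aut ∧ H.subgroupOf F.S = B.comap e.toMonoidHom ∧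
      gam F H = Γ.comap (MulAut.congr e).toMonoidHom := by
  obtain ⟨-, -, e, hΓ'⟩ := hmod
  have h1 := N2.mi_comap e h
  set Γ' := Γ.comap (MulAut.congr e).toMonoidHom
  let H : Subgroup (RingAut A) :=
    { carrier := {γ | γ ∈ F.Aut ∧ ∃ σ ∈ Γ', ∀ s : F.S, ((σ s : F.S) : RingAut A) = γ * s * γ⁻¹}
      one_mem' := ⟨one_mem _, 1, one_mem _, fun s => by simp⟩
      mul_mem' := by
        rintro γ δ ⟨hγ, σ, hσ, k⟩ ⟨hδ, τ, hτ, k'⟩
        exact ⟨mul_mem hγ hδ, σ * τ, mul_mem hσ hτ, fun s => by rw [MulAut.mul_apply, k, k']; group⟩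
      inv_mem' := by
        rintro γ ⟨hγ, σ, hσ, k⟩
        refine ⟨inv_mem hγ, σ⁻¹, inv_mem hσ, fun s => ?_⟩
        have h2 := k (σ⁻¹ s)
        rw [MulAut.apply_inv_self] at h2
        rw [h2]
        group }
  refine ⟨e, H, fun _ k => k.1, Subgroup.ext fun s => ?_, Subgroup.ext fun σ => ⟨?_, fun hσ => ?_⟩⟩
  · rw [← h1.conj]
    refine ⟨fun ⟨_, σ, hσ, k⟩ => ?_, fun k => ⟨F.S_le_Aut s.2, _, k, fun _ => rfl⟩⟩
    rwa [show MulAut.conj s = σ from MulEquiv.ext fun t => Subtype.ext (k t).symm]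
  · rintro ⟨γ, ⟨-, τ, hτ, k⟩, k'⟩
    rwa [show σ = τ from MulEquiv.ext fun t => Subtype.ext ((k' t).trans (k t).symm)]
  · obtain ⟨γ, hγ, k⟩ := hΓ' _ (hΓ _ hσ)
    have h2 : ∀ s : F.S, ((σ s : F.S) : RingAut A) = γ * s * γ⁻¹ := fun s =>
      congrArg Subtype.val (e.injective (a₂ := ⟨_, FR.conj_mem_S hγ s.2⟩) (by
        rw [k s ⟨_, FR.conj_mem_S hγ s.2⟩ rfl]
        change _ = e (σ (e.symm (e s)))
        rw [e.symm_apply_apply]))
    exact ⟨γ, ⟨hγ, σ, hσ, h2⟩, h2⟩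

/-- **the context** -/
theorem exists_ctx [IsSimpleGroup X] (cf : Cf) (hmod : ModE F X Γ₀) {p : ℕ} (hp : p.Prime) (hc : (p : A) = 0)
    {B : Subgroup X} {Γ : Subgroup (MulAut X)} (h : MI B Γ) (hΓ : ∀ σ ∈ Γ, σ ∈ Γ₀) [Finite X] (hX : IsLieTypeChar p X) :
    Good B ∨ ∃ (e : F.S ≃* X) (H : Subgroup (RingAut A)), Ctx F H p ∧ H.subgroupOf F.S = B.comap e.toMonoidHom ∧
      gam F H = Γ.comap (MulAut.congr e).toMonoidHom := by
  obtain ⟨e, H, h1, h2, h3⟩ := exists_H hmod h hΓ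
  have := Fact.mk hp
  have := e.isSimpleGroup
  have : Finite F.S := Finite.of_equiv _ e.symm.toEquiv
  have h4 : MI (H.subgroupOf F.S) (gam F H) := by
    rw [h2, h3]
    exact N2.mi_comap e h
  have h5 : IsLieTypeChar p F.S := CTwoTab.isLieTypeChar_congr e.symm hX
  have h6 : Good (H.subgroupOf F.S) → Good B := fun k => (N2.good_comap e.toMonoidHom e.surjective B).1 (h2 ▸ k)
  by_cases h7 : pCore p ↥(H.subgroupOf F.S) = ⊥
  · by_cases h8 : p ∣ (H.subgroupOf F.S).index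
    · exact Or.inr ⟨e, H, ⟨cf, hmod.1, hmod.2.1, inferInstance, noncomm_of_mi h4, h1, h4, hp, hc, h7, h8⟩, h2, h3⟩
    · exact Or.inl (h6 (N2.Par.good_of_index (noncomm_of_mi h4) h5 h4 h8))
  · exact Or.inl (h6 (N2.Par.good_of_par (noncomm_of_mi h4) h5 h4 h7))

theorem good_of_mod [IsSimpleGroup X] (cf : Cf) (hmod : ModE F X Γ₀) {p : ℕ} (hp : p.Prime) (hc : (p : A) = 0)
    {B : Subgroup X} {Γ : Subgroup (MulAut X)} (h : MI B Γ) (hΓ : ∀ σ ∈ Γ, σ ∈ Γ₀) [Finite X] (hX : IsLieTypeChar p X)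
    (hG : Nonempty (F.S ≃* X) → ∀ H, Ctx F H p → Gd F H) : Good B := by
  rcases exists_ctx cf hmod hp hc h hΓ hX with k | ⟨e, H, c, h2, -⟩
  · exact k
  · exact (N2.good_comap e.toMonoidHom e.surjective B).1 (h2 ▸ hG ⟨e⟩ H c)

theorem exists_char (K : Type) [Field K] [Fintype K] : ∃ p, p.Prime ∧ CharP K p :=
  ⟨ringChar K, CharP.char_is_prime K _, inferInstance⟩

open Cfsg.Agent.LieClassical.OrthCore Cfsg.Agent.ClassicalGeometry.OrthSemi
  Cfsg.Agent.ClassicalGeometry.OrthSemiForms in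
/-- orthogonal groups, in the model `E Q ⧸ center` -/
theorem good_O (cf : Cf) {K ι : Type} [Field K] [Fintype K] [Fintype ι] [DecidableEq ι] {p : ℕ} (hp : p.Prime) [CharP K p]
    {Q : QuadraticForm K (ι → K)} (hG : LieClassical.OrthTrans.Good Q) {f : (ι → K) → K} (hf : ⇑Q = f)
    [IsSimpleGroup (POmega K f)] (hX : IsLieTypeChar p (POmega K f))
    (hO : ∀ (R : FR (orH Q hG.nondeg).EB) H, SB.Cl.IsO (orH Q hG.nondeg) R Q → Nonempty (R.S ≃* POmega K f) →
      Ctx R H p → Gd R H) {B : Subgroup (↥(E Q) ⧸ center ↥(E Q))} {Γ : Subgroup (MulAut (↥(E Q) ⧸ center ↥(E Q)))}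
    (h : MI B Γ) (hΓ : Γ ≤ (Psi Q).range) : Good B := by
  subst hf
  obtain ⟨R, hRL, hl, hR⟩ := modO K _ Q hG
  have := (pomegaEquiv hG).symm.isSimpleGroup
  have : Finite ((ι → K) ≃ₗ[K] (ι → K)) := Finite.of_injective _ DFunLike.coe_injective
  exact good_of_mod cf hR hp (cast_EB _ p) h hΓ (CTwoTab.isLieTypeChar_congr (pomegaEquiv hG) hX) fun ⟨e⟩ H c =>
    hO R H ⟨fun _ => rfl, fun _ _ => rfl, hRL, hl⟩ ⟨e.trans (pomegaEquiv hG).symm⟩ c

open Cfsg.Agent.LieClassical.OrthCore Cfsg.Agent.ClassicalGeometry.OrthSemi Cfsg.Agent.LieClassical.OrthForms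
  Cfsg.Agent.ClassicalGeometry.OrthSemiForms in
/-- **plus type**, when all the automorphisms in `Γ` are semilinear (also for `k = 4`) -/
theorem good_plus' (cf : Cf) (hO : OnO pAll) {K : Type} [Field K] [Fintype K] {k : ℕ} (hk : 4 ≤ k)
    {B : Subgroup (↥(E (plusForm k K)) ⧸ center ↥(E (plusForm k K)))}
    {Γ : Subgroup (MulAut (↥(E (plusForm k K)) ⧸ center ↥(E (plusForm k K))))} (h : MI B Γ)
    (hΓ : Γ ≤ (Psi (plusForm k K)).range) : Good B := by
  obtain ⟨p, hp, _⟩ := exists_char K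
  have := S0296.result (F := K) k hk
  have h0 : finrank K (Fin k ⊕ Fin k → K) = 2 * k := by
    rw [Module.finrank_fintype_fun_eq_card, Fintype.card_sum, Fintype.card_fin, two_mul]
  exact good_O cf hp (good_plus (by omega)) (coe_plusForm k K)
    (Or.inr (Or.inr (Or.inr (Or.inr (Or.inl ⟨K, _, inferInstance, inferInstance, k, hk, ⟨MulEquiv.refl _⟩⟩)))))
    (fun R H o e c => hO K _ _ R _ H p ⟨o, by omega, Or.inr (Or.inl ⟨k, h0, e, LinearEquiv.refl _ _,
      fun v => congrFun (coe_plusForm k K) v⟩)⟩ c trivial) h hΓ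

end Br

open Br

theorem brL : BrL := by
  rintro cf n hn hL T _ _ _ - ⟨K, _, _, h4, ⟨e⟩⟩
  obtain ⟨p, hp, _⟩ := exists_char K
  obtain ⟨R, hR⟩ := modL K n (by omega) h4
  have := e.symm.isSimpleGroup
  have := Finite.of_equiv _ e.toEquiv
  exact N2.asRow_congr e.symm fun B Γ h => good_of_mod cf hR hp (cast_LR K n p) h (fun _ _ => trivial)
    (Or.inl ⟨K, _, _, inferInstance, n, by omega, h4, ⟨MulEquiv.refl _⟩⟩) fun k H c => hL K R H p ⟨hn, k⟩ c

open Cfsg.Agent.LieClassical.HermBasic in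
theorem brU : BrU := by
  rintro cf n hn hU T _ _ _ - ⟨K, _, _, q, hq, h32, ⟨e⟩⟩
  obtain ⟨p, hp, _⟩ := exists_char K
  obtain ⟨R, hRL, hR⟩ := modU K n q hq hn h32
  have := e.symm.isSimpleGroup
  have := Finite.of_equiv _ e.toEquiv
  refine N2.asRow_congr e.symm fun B Γ h => good_of_mod cf hR hp (cast_EB _ p) h (fun _ _ => trivial)
    (Or.inr (Or.inr (Or.inl ⟨K, _, _, inferInstance, n, q, hq, hn, h32, ⟨MulEquiv.refl _⟩⟩))) fun k H c =>
      hU K _ _ R q H p ⟨⟨rfl, exists_not_fixed hq⟩, hRL, hq, ?_, ?_, ?_⟩ (Module.finrank_fin_fun K) c <;>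
    rwa [Module.finrank_fin_fun]

open Cfsg.Agent.ClassicalGeometry.SympBasic in
theorem brSp : BrSp := by
  intro cf k hk hS K _ _ hk2 B Γ h hΓ
  obtain ⟨p, hp, _⟩ := exists_char K
  obtain ⟨R, hRL, hR⟩ := modSp K k hk hk2
  have := S0270.result (F := K) k hk hk2
  have h0 : finrank K (Fin k ⊕ Fin k → K) = 2 * k := by
    rw [Module.finrank_fintype_fun_eq_card, Fintype.card_sum, Fintype.card_fin, two_mul]
  refine good_of_mod cf hR hp (cast_EB _ p) h (fun σ hσ => ?_)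
    (Or.inr (Or.inl ⟨K, _, _, inferInstance, k, hk, hk2, ⟨MulEquiv.refl _⟩⟩)) fun e H c =>
      hS K _ _ R H p ⟨⟨fun _ => rfl, sympForm_self, hRL⟩, h0, hk, hk2, e⟩ c
  rcases or_assoc.2 hΓ with h1 | h1
  · exact ClassicalGeometry.SympAutExists.exists_semi hk _ (ClassicalGeometry.SympAutOddA.recog hk h1 _)
  · exact h1 hσ

open Cfsg.Agent.LieClassical.OrthForms Cfsg.Agent.ClassicalGeometry.OrthSemiForms in
theorem brO : BrO := by
  intro cf hO h4
  refine ⟨?_, ?_, ?_⟩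
  · rintro T _ _ _ - ⟨K, _, _, k, hk, hq, ⟨e⟩⟩
    obtain ⟨p, hp, _⟩ := exists_char K
    have h2 : (2 : K) ≠ 0 := fun h2 => by
      have h6 := FiniteField.even_card_of_char_two (F := K) (CharP.ringChar_of_prime_eq_zero Nat.prime_two h2)
      obtain ⟨j, hj⟩ := hq
      omega
    have hG : LieClassical.OrthTrans.Good (oddForm k K) := good_odd (by omega) h2
    have := e.symm.isSimpleGroup
    have h0 : finrank K (Unit ⊕ (Fin k ⊕ Fin k) → K) = 2 * k + 1 := by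
      rw [Module.finrank_fintype_fun_eq_card, Fintype.card_sum, Fintype.card_sum, Fintype.card_fin, Fintype.card_unit]
      omega
    refine N2.asRow_congr (e.trans ((coe_oddForm k K) ▸ pomegaEquiv hG)).symm fun B Γ h => ?_
    exact good_O cf hp hG (coe_oddForm k K)
      (Or.inr (Or.inr (Or.inr (Or.inl ⟨K, _, _, inferInstance, k, hk, hq, ⟨MulEquiv.refl _⟩⟩))))
      (fun R H o e c => hO K _ _ R _ H p ⟨o, by omega, Or.inl ⟨k, h0, hq, e, LinearEquiv.refl _ _,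
        fun v => congrFun (coe_oddForm k K) v⟩⟩ c trivial) h fun _ _ => AutOrth.Final.surjective_odd hk h2 _
  · rintro T _ _ _ hn ⟨K, _, _, k, hk, ⟨e⟩⟩
    by_cases h5 : k = 4
    · subst h5
      exact h4 T hn ⟨K, _, inferInstance, ⟨e⟩⟩
    have hG : LieClassical.OrthTrans.Good (plusForm k K) := good_plus (by omega)
    exact N2.asRow_congr (e.trans ((coe_plusForm k K) ▸ pomegaEquiv hG)).symm fun B Γ h =>
      good_plus' cf hO hk h fun _ _ => AutOrth.Final.surjective_plus (by omega) _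
  · rintro T _ _ _ - ⟨K, _, _, k, a, b, hk, hab, ⟨e⟩⟩
    obtain ⟨p, hp, _⟩ := exists_char K
    have hG : LieClassical.OrthTrans.Good (minusForm (k - 1) K a b) := good_minus (by omega) a b hab
    have := e.symm.isSimpleGroup
    have h0 : finrank K ((Fin (k - 1) ⊕ Fin (k - 1)) ⊕ Fin 2 → K) = 2 * k := by
      rw [Module.finrank_fintype_fun_eq_card, Fintype.card_sum, Fintype.card_sum, Fintype.card_fin, Fintype.card_fin]
      omega
    refine N2.asRow_congr (e.trans ((coe_minusForm (k - 1) K a b) ▸ pomegaEquiv hG)).symm fun B Γ h => ?_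
    exact good_O cf hp hG (coe_minusForm (k - 1) K a b)
      (Or.inr (Or.inr (Or.inr (Or.inr (Or.inr (Or.inl
        ⟨K, _, inferInstance, inferInstance, k, a, b, hk, hab, ⟨MulEquiv.refl _⟩⟩))))))
      (fun R H o e c => hO K _ _ R _ H p ⟨o, by omega, Or.inr (Or.inr ⟨k, a, b, h0, hab, e, LinearEquiv.refl _ _,
        fun v => congrFun (coe_minusForm (k - 1) K a b) v⟩)⟩ c trivial) h
      fun _ _ => AutOrth.Final.surjective_minus (by omega) hab _

end Cfsg.Agent.N2C
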